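import Cfsg.Agent.CI.Red
import Cfsg.Agent.Mult.Act
import Cfsg.Agent.S2117

/-! Central Sylow 2-intersections: the structure of the component (`KC.main`, `core`). -/
set_option autoImplicit false
set_option linter.unusedSectionVars false
open Subgroup Cfsg Cfsg.Agent.BG Cfsg.Agent.Invol Cfsg.Agent.LieM Cfsg.Agent.Sig Cfsg.Agent.RI
open scoped commutatorElement MatrixGroups

namespace Cfsg.Agent.CI
universe u
variable {G : Type u} {Y : Type*} [Group G] [Finite G] [Group Y] [Finite Y] {A L Q : Subgroup G} {c g t u x z : G}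
  {S : Sylow 2 G} {π : G →* Y}

theorem syl_ncent (hL : IsQuasisimple L) (hQ : SylowIn 2 Q L) : ¬ Q ≤ C[L] := fun h =>
  qs_not_le_solvable hL (pgroup_sol hQ.pg) (ThA.perf_le (qs_perfect hL) hQ (cents_norm (cents_symm h)) le_rfl)

theorem CZ.cent_le (h : CZ G) (hL : IsQuasisimple L) : (S : Subgroup G) ⊓ C[L] ≤ C[(S : Subgroup G)] := fun _ hx =>
  by_contra fun n => not_le_norm hL ((le_cent1_iff.2 hx.2).trans (h.le_norm hx.1 n))

theorem CZ.ab_of (h : CZ G) (hL : CompIn L ⊤) (l : L ⊓ S ≤ C[(S : Subgroup G)]) :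
    (S : Subgroup G) ≤ C[(S : Subgroup G)] := fun s hs => by
  have nL : (S : Subgroup G) ≤ N[L] := fun s hs => by_contra fun n => syl_ncent hL.qs (comp_syl hL S) (cents_symm
    ((hL.cent_of_ne (hL.cjn (g := s) (by simp)) fun e => n (BG.mem_norm.2 e.symm)).trans (centS fun x hx => mem_cj'.2 ⟨x, hx.1, conj_eq_of_cent (cents_symm l hs) hx⟩)))
  have nZ := norms_center nL
  have nZ' : L ≤ N[Z[L]] := norms_center (normG L)
  haveI := ThA.qs_simple hL.qs
  have := ThA.inner_of (fun e => qs_not_le_centralizer hL.qs ((qs_perfect hL.qs).ge.trans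
    (((quotient_cents2 nZ' nZ').1 (abelian_iff.1 e)).trans inf_le_right))) (quotient_pHall nZ' (comp_syl hL S))
    (quotient_cents _ (l.trans (centS inf_le_right))) (quotient_pgroup Z[L] S.2.pi).pg (quotient_norms _ nL)
    (quotient_cents _ (cents_symm l)) (mem_quotient (nZ hs) hs)
  obtain ⟨q, hq, r, hr, e⟩ := (mem_sup_normr ((quotientS _ inf_le_left).trans ((normG _).trans (cent_norm _)))).1 this
  obtain ⟨q, hq', nq, rfl⟩ := mem_quotient_iff.1 hq
  have m : q⁻¹ * s ∈ N[Z[L]] := mul_mem (inv_mem nq) (nZ hs)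
  have : zpowers (q⁻¹ * s) ≤ C[L] := Gold.qs_cent hL.qs (by
    rw [commGC]
    refine ((quotient_cents2 (zpowers_le.2 m) nZ').1 ?_).trans inf_le_right
    rwa [quotient_zpowers m, zpowers_le, coset_mul (inv_mem nq) (nZ hs), coset_inv nq, e, inv_mul_cancel_left])
  simpa using mul_mem (l hq') (h.cent_le hL.qs ⟨S.1.mul_mem (S.1.inv_mem hq'.2) hs, zpowers_le.1 this⟩)

structure KC (L : Subgroup G) (π : G →* Y) : Prop where
  cz : CZ G
  nl : L.Normal
  qs : IsQuasisimple L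
  sj : Function.Surjective π
  ker : π.ker = C[L]
  nc : ∀ P : Sylow 2 G, ¬ L ⊓ P ≤ C[(P : Subgroup G)]

namespace KC
variable (h : KC L π)
include h

theorem hC (P : Sylow 2 G) : π.ker ≤ N[(P : Subgroup G)] := by
  obtain ⟨t, ht, n⟩ := SetLike.not_le_iff_exists.1 (h.nc P)
  exact h.ker.le.trans ((cent_le_cent1 ht.1).trans (h.cz.le_norm ht.2 n))

theorem CR (hc : c ∈ (S : Subgroup G)) (e : π c = 1) : c ∈ Op 2 (⊤ : Subgroup G) :=
  pcoreS_normal {2} (normal_top π.ker) (pcore_max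
    (N := (S : Subgroup G) ⊓ π.ker) ⟨inf_le_right, normsI (h.hC S) (normG _)⟩ (S.2.to_le inf_le_left).pi ⟨hc, e⟩)

theorem lift (hc : IsPGroup 2 (zpowers c)) (e : π c ∈ (S : Subgroup G).map π) : c ∈ (S : Subgroup G) := by
  rw [← mem_comap, comap_map_eq] at e
  exact zpowers_le.1 (le_sylow hc (zpowers_le.2 (sup_le (normG _) (h.hC S) e)))

theorem ex {y : Y} (h1 : y ∈ L.map π) (h2 : y ∈ (S : Subgroup G).map π) : ∃ u ∈ L ⊓ S, π u = y := by
  obtain ⟨x, hx, e⟩ := exists_lift_elt (π.subgroupMap_surjective L) (y := ⟨y, h1⟩) (p := 2) (by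
    rw [pg_zpowers_iff, orderOf_mk, ← pg_zpowers_iff]; exact (S.2.map π).to_le (zpowers_le.2 h2))
  rw [pg_zpowers_iff, ← orderOf_coe, ← pg_zpowers_iff] at hx
  replace e : π x = y := congrArg Subtype.val e
  exact ⟨x, ⟨x.2, h.lift hx (e ▸ h2)⟩, e⟩

theorem sp : IsSimpleGroup (L.map π) ∧ ¬ IsMulCommutative (L.map π) ∧ C[L.map π] = ⊥ := by
  haveI := h.nl
  obtain ⟨h1, h2, h3⟩ := map_simple (π := π) h.qs (h.ker ▸ inf_le_left) (h.ker ▸ inf_le_right)
  refine ⟨h1, h2, eq_bot_iff.2 fun y hy => ?_⟩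
  obtain ⟨y, rfl⟩ := h.sj y
  exact h.ker.ge (h3 y (norm_of_normal L ⊤ trivial) hy)

theorem un {v : Y} (hv : v ∈ L.map π) (v2 : orderOf v = 2) : UN v := fun P Q hP hQ => by_contra fun ne => by
  haveI := h.nl
  haveI : (L.map π).Normal := h.nl.map π h.sj
  obtain ⟨_, hna, -⟩ := h.sp
  obtain ⟨T, hT⟩ := Transfer.isSylowIn_iff_exists_sylow.1 (Transfer.isSylowIn_sylow_inf_normal P (L.map π))
  obtain ⟨U, hU⟩ := Transfer.isSylowIn_iff_exists_sylow.1 (Transfer.isSylowIn_sylow_inf_normal Q (L.map π))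
  obtain ⟨P, rfl⟩ := Sylow.mapSurjective_surjective h.sj 2 P
  obtain ⟨Q, rfl⟩ := Sylow.mapSurjective_surjective h.sj 2 Q
  have cz := h.cz P Q fun e => ne (e ▸ rfl)
  obtain ⟨x, hx, rfl⟩ := h.ex hv hP
  have px := P.2.to_le (zpowers_le.2 hx.2)
  obtain ⟨a, ha, -, -, a2, -⟩ := rank2_of_simple hna T (A := T) fun x hx _ => hx
  have kn := Gold.kn_of_closed hna T (center_nil_ne_bot (pgroup_nil T.2) fun e => ne_one_of a2 (mem_bot.1 (e ▸ ha)))
    (center_abelian _) ⟨inf_le_left, fun x hx g m => ⟨m, ((h.cz.sub L).quo (π.subgroupMap_surjective L)).sc hx m⟩⟩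
  refine h.nc P fun y hy => ?_
  have py := P.2.to_le (zpowers_le.2 hy.2)
  rcases kn.se_or_ab with ⟨M, hM⟩ | hab
  · obtain ⟨t, R, k⟩ := SE.bender_simple (SE.exists_not_comm hna) hM
    have m : ∀ {T : Subgroup (L.map π)} {A : Subgroup Y} {y : Y} (hy : y ∈ L.map π), T.map (L.map π).subtype = A ⊓ L.map π →
      y ∈ A → ⟨y, hy⟩ ∈ T := fun hy e r => (mem_map_iff_mem (subtype_injective _)).1 (e.ge ⟨r, hy⟩)
    obtain rfl := tis_of_hyp k T U ⟨_, hv⟩ (fun e => ne_one_of v2 (congrArg Subtype.val e)) (m hv hT hP) (m hv hU hQ)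
    exact cz ⟨hy.2, h.lift py ((hT.symm.trans hU).le ⟨mem_map_of_mem π hy.2, mem_map_of_mem π hy.1⟩).1⟩
  have k : ∀ y ∈ (P : Subgroup G), π y = 1 → y ∈ C[(P : Subgroup G)] := fun y hy e => h.cz.cent_le h.qs ⟨hy, h.ker.le e⟩
  by_cases y1 : π y = 1
  · exact k y hy.2 y1
  obtain ⟨e1, e2⟩ := kn.elem hna hab
  obtain ⟨⟨_, g, hg, rfl⟩, e⟩ := isConj_iff.1 (e2 ⟨_, hv⟩ ⟨_, mem_map_of_mem π hy.1⟩ (by rwa [orderOf_mk]) (orderOf_two_iff.2
    ⟨e1 _ (by rw [pg_zpowers_iff, orderOf_mk, ← pg_zpowers_iff, ← MonoidHom.map_zpowers]; exact py.map π),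
      fun e => y1 (congrArg Subtype.val e)⟩))
  replace e : π (g * x * g⁻¹) = π y := by simpa using congrArg Subtype.val e
  have m := h.lift (cj_zpowers g x ▸ px.cj g) (e ▸ mem_map_of_mem π hy.2)
  rw [← mul_inv_cancel_left (g * x * g⁻¹) y]
  exact mul_mem (h.cz.sc ⟨hx.2, cz ⟨hx.2, h.lift px hQ⟩⟩ m)
    (k _ (mul_mem (inv_mem m) hy.2) (by rw [map_mul, map_inv, e, inv_mul_cancel]))

theorem main : TIS (L.map π) ∧ (S : Subgroup G).map π ≤ L.map π ∧ (S : Subgroup G) ≤ L ⊓ S ⊔ Op 2 ⊤ := by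
  haveI := h.nl
  haveI : (L.map π).Normal := h.nl.map π h.sj
  obtain ⟨_, hna, hC⟩ := h.sp
  obtain ⟨ti, l⟩ := un_struct (S := S.mapSurjective h.sj) hna hC fun _ => h.un
  refine ⟨ti, l, fun s hs => ?_⟩
  obtain ⟨q, hq, e⟩ := h.ex (l (mem_map_of_mem π hs)) (mem_map_of_mem π hs)
  simpa using mul_mem_sup hq (h.CR (mul_mem (inv_mem hq.2) hs) (by rw [map_mul, map_inv, e, inv_mul_cancel]))

end KC

theorem cover {X H : Type*} [Group X] [Group H] [Finite H] [Group.IsPerfect X] (hH : Group.IsPerfect H)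
    (h1 : HasCyclicSchurMultiplier H 1) {ρ : H →* Y} (hρ : Function.Surjective ρ) {ξ : X →* Y} (hξ : Schur.IsCentralExt ξ) :
    ∃ φ : H →* X, Function.Surjective φ ∧ φ.ker ≤ ρ.ker ∧ ξ.ker ≤ ρ.ker.map φ := by
  have E := Schur.isCentralExt_pullSnd hξ ρ
  obtain ⟨s, hs⟩ := Schur.exists_section_of_perfect hH E (Schur.mul_eq_bot_of_trivial h1 E)
  have e : ξ.comp ((Schur.pullFst ξ ρ).comp s) = ρ := by
    rw [← MonoidHom.comp_assoc, Schur.pull_comm, MonoidHom.comp_assoc, hs, MonoidHom.comp_id]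
  have su := Schur.surjective_of_over_stem hρ ⟨hξ.surj, hξ.central, by simp⟩ e
  generalize (Schur.pullFst ξ ρ).comp s = φ at e su
  subst e
  refine ⟨φ, su, fun x hx => show ξ (φ x) = 1 by rw [show φ x = 1 from hx, map_one], fun x hx => ?_⟩
  obtain ⟨x, rfl⟩ := su x
  exact ⟨x, hx, rfl⟩

theorem core (h : CZ G) (hO : Op' 2 (⊤ : Subgroup G) = ⊥) (nab : ∀ P : Sylow 2 G, ¬ (P : Subgroup G) ≤ C[(P : Subgroup G)])
    (nn : ∀ P : Sylow 2 G, ¬ ⊤ ≤ N[(P : Subgroup G)]) : ∃ L : Subgroup G, L.Normal ∧ IsQuasisimple L ∧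
      Op 2 ⊤ ≤ C[Op 2 (⊤ : Subgroup G)] ∧ Op 2 ⊤ ≤ C[L] ∧ (∀ P : Sylow 2 G, (P : Subgroup G) ≤ L ⊔ Op 2 ⊤) ∧
      (Nonempty (L ≃* SL(2, ZMod 5)) ∨ (∀ P : Sylow 2 G, NG (P : Subgroup G)) ∧
        ∃ (Y : Type u) (_ : Group Y) (ξ : L →* Y), Schur.IsCentralExt ξ ∧ center Y = ⊥ ∧ (Lie.IsoSuzuki Y ∨
          ∃ (F : Type) (_ : Field F) (_ : Fintype F) (n : ℕ), 2 ≤ n ∧ Fintype.card F = (2 ^ n) ^ 2 ∧
            Nonempty (Y ≃* PSU 3 F (2 ^ n)))) := by
  have hR : ∀ P : Sylow 2 G, Op 2 ⊤ ≤ C[(P : Subgroup G)] := fun P =>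
    let ⟨g, _, n⟩ := SetLike.not_le_iff_exists.1 (nn P)
    (le_inf (O2_le P) (O2_le _)).trans (h P _ (conj_ne n))
  obtain ⟨S⟩ : Nonempty (Sylow 2 G) := inferInstance
  obtain ⟨L, hL⟩ : ∃ L : Subgroup G, CompIn L ⊤ := by
    by_contra! n
    exact nab S ((ThA.le_O2 hO (by rw [layerIn_eq_bot_iff.2 n]; simp) (cents_symm (hR S))).trans (hR S))
  have hE : layerIn ⊤ = L := le_antisymm (layerIn_le_iff.2 fun M hM => by_contra fun n => nab S (h.ab_of hM
    ((le_inf inf_le_right (inf_le_left.trans (hM.cent_of_ne hL fun e => n e.le))).trans (h.cent_le hL.qs)))) hL.le_layerIn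
  haveI nl : L.Normal := (hE ▸ nE).normal
  have k : KC L (QuotientGroup.mk' C[L]) := ⟨h, nl, hL.qs, QuotientGroup.mk'_surjective _, QuotientGroup.ker_mk' _,
    fun P l => nab P (h.ab_of hL l)⟩
  generalize QuotientGroup.mk' C[L] = π at k
  refine ⟨L, nl, hL.qs, (hR S).trans (centS (O2_le S)), O2_cent hL, fun P => k.main.2.2.trans (sup_le_sup_right inf_le_left _), ?_⟩
  obtain ⟨_, hna, -⟩ := k.sp
  have ti := (k.main (S := S)).1
  haveI : Group.IsPerfect L := (isQuasisimple_iff.1 hL.qs).2.1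
  have E : Schur.IsCentralExt (π.subgroupMap L) := ⟨π.subgroupMap_surjective L, fun x hx => mem_center_iff.2 fun y =>
    Subtype.ext (mem_cent.1 (k.ker.le (congrArg Subtype.val hx)) y y.2)⟩
  obtain ⟨T⟩ : Nonempty (Sylow 2 (L.map π)) := inferInstance
  by_cases hab : ∀ Q : Subgroup (L.map π), IsPGroup 2 Q → IsMulCommutative Q
  · have nk : (π.subgroupMap L).ker ≠ ⊥ := fun e => k.nc S (cents_symm (k.main.2.2.trans (sup_le (fun x hx => mem_cent.2
      fun y hy => congrArg Subtype.val ((MonoidHom.ker_eq_bot_iff _).1 e (a₁ := ⟨y, hy.1⟩ * ⟨x, hx.1⟩)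
        (a₂ := ⟨x, hx.1⟩ * ⟨y, hy.1⟩) (by
          rw [map_mul, map_mul]
          exact (hab (((L ⊓ S).subgroupOf L).map (π.subgroupMap L)) (((S.2.to_le inf_le_right).comap_subtype).map _)).comm
            (mem_map_of_mem _ hy) (mem_map_of_mem _ hx)))) ((hR S).trans (centS inf_le_right)))))
    obtain ⟨F, _, _, n, hn, hF, ⟨e⟩, -⟩ := AB.psl_of_se hna hab (ti.se hna T)
    have ek : ∀ {Z : Type} [Group Z] (e : L.map π ≃* Z), Schur.IsCentralExt (e.toMonoidHom.comp (π.subgroupMap L)) ∧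
        (e.toMonoidHom.comp (π.subgroupMap L)).ker ≠ ⊥ := fun e => by
      have : (e.toMonoidHom.comp (π.subgroupMap L)).ker = (π.subgroupMap L).ker := by ext; simp
      exact ⟨⟨e.surjective.comp E.surj, this ▸ E.central⟩, this ▸ nk⟩
    by_cases n2 : n = 2
    · obtain ⟨f⟩ := Small.psl4_equiv (F := F) (by rw [Nat.card_eq_fintype_card, hF, n2]; rfl)
      obtain ⟨φ, h1, h2, h3⟩ := cover (GW.perfect_SL2 (by simp)) (S2117.result (F := ZMod 5) (by simp) (by simp))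
        Classical.pslMk_surjective (ek (e.trans f)).1
      refine .inl ⟨(MulEquiv.ofBijective φ ⟨(injective_iff_map_eq_one _).2 fun x hx => by_contra fun x1 =>
        (ek (e.trans f)).2 (le_bot_iff.1 (h3.trans ?_)), h1⟩).symm⟩
      rintro _ ⟨y, hy, rfl⟩
      rw [Classical.ker_pslMk] at h2 hy
      rcases Classical.sl_mem_center_iff'.1 hy with rfl | rfl
      exacts [map_one φ, (Classical.sl_mem_center_iff'.1 (h2 hx)).resolve_left x1 ▸ hx]
    have c8 : 2 ^ 3 ≤ Fintype.card F := hF ▸ Nat.pow_le_pow_right two_pos (by omega)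
    have ev : Fintype.card F % 2 = 0 := by rw [hF, show n = n - 1 + 1 by omega, pow_succ]; omega
    obtain ⟨φ, -, -, h3⟩ := cover (GW.perfect_SL2 (by rw [Nat.card_eq_fintype_card]; omega))
      (S2117.result (F := F) (by omega) (by omega)) Classical.pslMk_surjective (ek e).1
    refine absurd (le_bot_iff.1 (h3.trans ?_)) (ek e).2
    rintro _ ⟨y, hy, rfl⟩
    rw [Classical.ker_pslMk] at hy
    haveI := ringChar.of_eq (FiniteField.even_card_iff_char_two.2 ev)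
    rcases Classical.sl_mem_center_iff'.1 hy with rfl | rfl
    exacts [map_one φ, by
      rw [show (-1 : SL(2, F)) = 1 from Subtype.ext (Matrix.ext fun i j => CharTwo.neg_eq _)]; exact map_one φ]
  refine .inr ⟨fun P => ?_, L.map π, inferInstance, _, E, center_simple hna, (SE.bender_list hna (ti.se hna T)).resolve_left ?_⟩
  · haveI : (L.map π).Normal := nl.map π k.sj
    obtain ⟨U, hU⟩ := Transfer.isSylowIn_iff_exists_sylow.1
      (Transfer.isSylowIn_sylow_inf_normal (P.mapSurjective k.sj) (L.map π))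
    have := (ng_of (S := U) hna ti fun c => hab (Gold.ab_of_syl (sylowIn_top U) (isMulCommutative_iff'.2 c))).map
      (subtype_injective _)
    rw [hU, Sylow.coe_mapSurjective, inf_eq_left.2 k.main.2.1] at this
    exact this.of_map
  · rintro ⟨F, _, _, n, hn, hF, ⟨e⟩⟩
    haveI := ringChar.of_eq (FiniteField.even_card_iff_char_two.2 (show Fintype.card F % 2 = 0 by
      rw [hF, show n = n - 1 + 1 by omega, pow_succ]; omega))
    exact hab fun Q hQ => isog_abelian ⟨(e.subgroupMap Q).symm⟩ (psl_hab CharTwo.two_eq_zero _ (hQ.map _))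

end Cfsg.Agent.CI
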