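import Cfsg.Agent.RI.Two
import Cfsg.Agent.S3305
import Cfsg.Agent.PLocal.Replace
import Cfsg.Agent.Ly.Main

/-! Central Sylow 2-intersections: the property `CZ`, action on subgroups of odd order (`odd_cent`), and the structure
of the component (`KC.main`, `core`). -/
set_option autoImplicit false
set_option linter.unusedSectionVars false
open Subgroup Cfsg Cfsg.Agent.BG Cfsg.Agent.Invol Cfsg.Agent.LieM Cfsg.Agent.Sig Cfsg.Agent.RI
open scoped commutatorElement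

namespace Cfsg.Agent.CI
variable {G Y : Type*} [Group G] [Finite G] [Group Y] [Finite Y] {A L W : Subgroup G} {c g t u x z : G}
  {S : Sylow 2 G} {π : G →* Y}

/-- Distinct Sylow 2-subgroups meet in their centres. -/
def CZ (G : Type*) [Group G] : Prop := ∀ P Q : Sylow 2 G, P ≠ Q → (P : Subgroup G) ⊓ Q ≤ C[(P : Subgroup G)]

theorem conj_ne (hg : g ∉ N[(S : Subgroup G)]) : S ≠ MulAut.conj g • S := fun e =>
  hg (BG.mem_norm.2 (congrArg (fun R : Sylow 2 G => (R : Subgroup G)) e.symm))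

theorem cz_of (h : ∀ S T : Sylow 2 G, S ≠ T → ∃ U : Sylow 2 G, (S : Subgroup G) ⊓ T ≤ Z[(U : Subgroup G)]) : CZ G := by
  intro P Q ne
  by_cases nab : (P : Subgroup G) ≤ C[(P : Subgroup G)]
  · exact inf_le_left.trans nab
  have k : ∀ X ≤ (P : Subgroup G), ∀ g ∉ N[(P : Subgroup G)], X ≤ cj g P → ∃ U : Sylow 2 G, X ≤ Z[(U : Subgroup G)] :=
    fun X l g n l' => (h P _ (conj_ne n)).imp fun U e => (le_inf l l').trans e
  have hU : ASI.UQ P := fun X l n g e => by_contra fun r => by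
    obtain ⟨U, hU⟩ := k X l g⁻¹ (by simpa) (cj_le_iff.1 e)
    exact n (centSS (hU.trans inf_le_left) le_rfl (hU.trans inf_le_right))
  have nE : ∀ D, ¬ ASI.Ess P D := fun D hD => by
    obtain ⟨g, hg, n⟩ := SetLike.not_le_iff_exists.1 hD.nn
    obtain ⟨U, hU⟩ := k D hD.le g (fun r => n (BG.mem_norm.2 (by rw [ASI.cj_Rn r, cj_of_norm hg])))
      ((cj_of_norm hg).ge.trans (cj_mono g hD.le))
    have l : (U : Subgroup G) ≤ C[D] := cents_symm (hU.trans inf_le_right)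
    obtain ⟨k, hk, e⟩ := Sylow_subJ (pHall_subl (l.trans (cent_sub D)) le_top (sylowIn_top U)) inf_le_right hD.syl.pg
    exact hD.nab (e.trans ((cj_mono k l).trans (cj_of_norm (cent_norm D hk)).le))
  obtain ⟨U, hU'⟩ := h P Q ne
  obtain ⟨g, -, e⟩ := Sylow_trans (sylowIn_top P) (sylowIn_top U)
  intro a ha
  have := hU' ha
  rw [e, C_cj, ← cj_inf] at this
  obtain ⟨z, hz, rfl⟩ := mem_cj'.1 this
  exact (ASI.fus hU nab (fun a b => a ∈ Z[(P : Subgroup G)] → b ∈ Z[(P : Subgroup G)]) (fun _ _ _ f g m => g (f m))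
    (fun n hn a _ m => conj_mem_of_norm (norms_center le_rfl hn) m) (fun E h => absurd h (nE E)) hz.1 ha.1 hz).2

theorem CZ.sub (h : CZ G) (H : Subgroup G) : CZ H := fun S T ne x hx => by
  obtain ⟨P, hP⟩ := S.exists_comap_subtype_eq
  obtain ⟨R, hR⟩ := T.exists_comap_subtype_eq
  rw [← hP, ← hR] at hx
  refine mem_cent.2 fun y hy => Subtype.ext (mem_cent.1 (h P R (fun e => ne (Sylow.ext (by rw [← hP, ← hR, e]))) hx) _
    (hP.ge hy))

theorem CZ.quo (h : CZ G) (hπ : Function.Surjective π) : CZ Y := cz_of fun S T ne => by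
  obtain ⟨P, Q, n, e⟩ := S3305.lift π hπ S T ne
  exact ⟨P.mapSurjective hπ, e ▸ le_inf (map_mono inf_le_left) (cents_map π (h P Q n))⟩

theorem CZ.norm (h : CZ G) (hx : x ∈ (S : Subgroup G)) (hg : g * x * g⁻¹ ∈ (S : Subgroup G))
    (n : g * x * g⁻¹ ∉ C[(S : Subgroup G)]) : g ∈ N[(S : Subgroup G)] := by_contra fun r =>
  n (h S _ (conj_ne r) ⟨hg, conj_mem_cj g hx⟩)

theorem CZ.sc (h : CZ G) (hx : x ∈ Z[(S : Subgroup G)]) (hg : g * x * g⁻¹ ∈ (S : Subgroup G)) :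
    g * x * g⁻¹ ∈ C[(S : Subgroup G)] := by_contra fun n =>
  n (conj_mem_of_norm (norms_cent le_rfl (h.norm hx.1 hg n)) hx.2)

theorem CZ.le_norm (h : CZ G) (ht : t ∈ (S : Subgroup G)) (n : t ∉ C[(S : Subgroup G)]) : C1[t] ≤ N[(S : Subgroup G)] :=
  fun g hg => h.norm ht (by rwa [mem_cent1.1 hg, mul_inv_cancel_right]) (by rwa [mem_cent1.1 hg, mul_inv_cancel_right])

/-- `A` is not generated by two elements modulo its centre. -/
def NG (A : Subgroup G) : Prop := ∀ c ∈ A, ∀ d ∈ A, ¬ A ≤ zpowers c ⊔ zpowers d ⊔ Z[A]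

theorem NG.of_map (h : NG (A.map π)) : NG A := fun c hc d hd l =>
  h _ (mem_map_of_mem π hc) _ (mem_map_of_mem π hd) ((map_mono l).trans (by
    rw [Subgroup.map_sup, Subgroup.map_sup, MonoidHom.map_zpowers, MonoidHom.map_zpowers]
    exact sup_le_sup_left (le_inf (map_mono inf_le_left) (cents_map π inf_le_right)) _))

theorem NG.map (h : NG A) (hπ : Function.Injective π) : NG (A.map π) := by
  rintro _ ⟨c, hc, rfl⟩ _ ⟨d, hd, rfl⟩ l
  refine h c hc d hd ((map_le_map_iff_of_injective hπ).1 (l.trans ?_))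
  rw [Subgroup.map_sup, Subgroup.map_sup, MonoidHom.map_zpowers, MonoidHom.map_zpowers]
  refine sup_le_sup_left ?_ _
  rintro _ ⟨⟨x, hx, rfl⟩, m⟩
  exact ⟨x, ⟨hx, mem_cent.2 fun y hy => hπ (by simpa using mem_cent.1 m _ (mem_map_of_mem π hy))⟩, rfl⟩

theorem odd_cent (h : CZ G) (hS : NG (S : Subgroup G)) (ho : Odd #W) (hn : (S : Subgroup G) ≤ N[W]) :
    W ≤ C[(S : Subgroup G)] := by
  induction' e : #W using Nat.strong_induction_on with n ih generalizing W
  have k : ∀ t ∈ (S : Subgroup G), t ∉ C[(S : Subgroup G)] → W ⊓ C1[t] ≤ C[(S : Subgroup G)] := fun t ht n x hx =>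
    mem_cent.2 fun s hs => (commutatorElement_eq_one_iff_mul_comm.1 (mem_bot.1 ((inf_eq_bot_of_odd S.2 ho).le
      ⟨commg_subl (zpowers_le.2 (h.le_norm ht n hx.2)) (commutator_mem_commutator hs (mem_zpowers x)),
        commg_subr hn (commutator_mem_commutator hs hx.1)⟩)))
  by_cases l : (S : Subgroup G) ⊓ C[W] ≤ C[(S : Subgroup G)]
  swap
  · obtain ⟨t, ht, n⟩ := SetLike.not_le_iff_exists.1 l
    exact (le_inf le_rfl (le_cent1_iff.2 ht.2)).trans (k t ht.1 n)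
  set K := (S : Subgroup G) ⊓ C[W]
  have n1 : (S : Subgroup G) ≤ N[K] := cents_norm (cents_symm l)
  have n2 : W ≤ N[K] := cents_norm (cents_symm inf_le_right)
  by_cases r : SE.Rank2 ((S : Subgroup G) /ᵍ K)
  · obtain ⟨a, ha, b, hb, a2, b2, ab, c⟩ := r
    have v := isKleinFour_closure (mul_self_of a2) (mul_self_of b2) c (ne_one_of a2) (ne_one_of b2) ab
    have lv : closure {a, b} ≤ (S : Subgroup G) /ᵍ K := (closure_le _).2 (by rintro _ (rfl | rfl) <;> assumption)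
    refine ((quotientSK n2 (inf_le_left.trans n2)).1 (coprime_abelian_gen_cent1 (L := (W ⊓ C[(S : Subgroup G)]) /ᵍ K)
      v.isMulCommutative v.not_isCyclic (lv.trans (quotient_norms K hn))
      (v.card_four ▸ (Nat.coprime_two_right.2 (quotient_odd K ho)).pow_right 2) fun y hy y1 x hx => ?_)).trans
      (sup_le l inf_le_right)
    replace hy := lv hy
    obtain ⟨y, hy', ny, rfl⟩ := mem_quotient_iff.1 hy
    replace hy := hy'
    obtain ⟨x, hW, nx, rfl⟩ := mem_quotient_iff.1 hx.1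
    have c1 : x ∈ C1[y] := mem_cent1.2 (commutatorElement_eq_one_iff_mul_comm.1 (mem_bot.1
      ((inf_eq_bot_of_odd (S.2.to_le inf_le_left) ho).le ⟨(coset_eq_one (commg_subl (normG _)
        (commutator_mem_commutator nx ny))).1 (by
          rw [coset_comm nx ny]; exact commutatorElement_eq_one_iff_mul_comm.2 (mem_cent1.1 hx.2)),
        commg_subl hn (commutator_mem_commutator hW hy)⟩)))
    refine mem_quotient nx ⟨hW, ?_⟩
    by_cases yc : y ∈ C[(S : Subgroup G)]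
    · exact ih _ (e ▸ proper_card (lt_of_le_of_ne inf_le_left fun r => y1 ((coset_eq_one ny).2
        ⟨hy, le_cent1_iff.1 (inf_eq_left.1 r)⟩))) (ho.of_dvd_nat (cardSg inf_le_left))
        (normsI hn (norms_cent1 (le_cent1_iff.2 yc))) rfl ⟨hW, c1⟩
    · exact k y hy yc ⟨hW, c1⟩
  obtain ⟨a, ha, b, hb, m⟩ : ∃ a ∈ (S : Subgroup G) /ᵍ K, ∃ b ∈ (S : Subgroup G) /ᵍ K,
      (S : Subgroup G) /ᵍ K ≤ zpowers a ⊔ zpowers b := by
    rcases SE.cyclic_or_quaternion (quotient_pgroup K S.2.pi).pg r with hc | ⟨m, -, ⟨e⟩⟩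
    · obtain ⟨x, hx⟩ := (Subgroup.isCyclic_iff_exists_zpowers_eq_top _).1 hc
      exact ⟨x, hx.le (mem_zpowers x), x, hx.le (mem_zpowers x), hx.ge.trans le_sup_left⟩
    · obtain ⟨t, r, -, -, -, -, h5⟩ := exists_of_equiv_quaternion e
      refine ⟨t, (h5 t).2 ⟨0, .inr (by simp)⟩, r, (h5 r).2 ⟨1, .inl (by simp)⟩, fun x hx => ?_⟩
      obtain ⟨j, rfl | rfl⟩ := (h5 x).1 hx
      exacts [mem_sup_right ⟨j, rfl⟩, mul_mem_sup (mem_zpowers t) ⟨j, rfl⟩]
  obtain ⟨a, ha', na, rfl⟩ := mem_quotient_iff.1 ha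
  obtain ⟨b, hb', nb, rfl⟩ := mem_quotient_iff.1 hb
  rw [← quotient_zpowers na, ← quotient_zpowers nb, ← quotientY (zpowers_le.2 na) (zpowers_le.2 nb),
    quotientSK n1 (sup_le (zpowers_le.2 na) (zpowers_le.2 nb)), sup_comm] at m
  exact absurd (m.trans (sup_le_sup_left (le_inf inf_le_left l) _)) (hS a ha' b hb')

theorem ng_of [IsSimpleGroup G] (hna : ¬ IsMulCommutative G) (ti : TIS G) (nab : ¬ Rank1.Comm (S : Subgroup G)) :
    NG (S : Subgroup G) := fun c hc d hd l => by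
  obtain ⟨t, ht⟩ := ti.hyp hna S
  have k : Gold.HN G _ _ t (S : Subgroup G) := ⟨ht, ‹_›, nab⟩
  have e0 := k.cm hc hd
  have ec : ⁅c, d⁆ ∈ C[(S : Subgroup G)] := mem_cent.2 fun y hy => (ht.Q0_comm e0 hy).symm
  have e : zpowers c ⊔ zpowers d ⊔ Z[(S : Subgroup G)] = closure (insert c (insert d (Z[(S : Subgroup G)] : Set G))) := by
    rw [Set.insert_eq, Set.insert_eq d, Subgroup.closure_union, Subgroup.closure_union, Subgroup.closure_eq,
      ← zpowers_eq_closure, ← zpowers_eq_closure, sup_assoc]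
  have n : closure (insert c (insert d (Z[(S : Subgroup G)] : Set G))) ≤ N[zpowers ⁅c, d⁆] := e ▸
    (sup_le (sup_le (zpowers_le.2 hc) (zpowers_le.2 hd)) inf_le_left).trans (cents_norm (cents_symm (zpowers_le.2 ec)))
  have l2 : ⁅(S : Subgroup G), (S : Subgroup G)⁆ ≤ zpowers ⁅c, d⁆ := (commutator_mono (e ▸ l) (e ▸ l)).trans
    (PLocal.commutator_closure_le n n (by
      have o : ∀ {x y : G}, x * y = y * x → ⁅x, y⁆ ∈ zpowers ⁅c, d⁆ := fun e =>
        commutatorElement_eq_one_iff_mul_comm.2 e ▸ one_mem _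
      rintro x (rfl | rfl | hx) y (rfl | rfl | hy)
      exacts [o rfl, mem_zpowers _, o (mem_cent.1 hy.2 _ hc), (Subgroup.inv_mem_iff _).1 (by rw [commutatorElement_inv]; exact mem_zpowers _), o rfl,
        o (mem_cent.1 hy.2 _ hd), o (mem_cent.1 hx.2 _ hc).symm, o (mem_cent.1 hx.2 _ hd).symm,
        o (mem_cent.1 hy.2 _ hx.1)]))
  have e2 : ⁅c, d⁆ * ⁅c, d⁆ = 1 := (ht.mem_Q0.1 e0).2
  have e1 : ⁅c, d⁆ ≠ 1 := fun r => nab fun x hx y hy => commutatorElement_eq_one_iff_mul_comm.1 (by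
    simpa [r] using l2 (commutator_mem_commutator hx hy))
  have k2 : ∀ w ∈ (S : Subgroup G), orderOf w = 2 → w = ⁅c, d⁆ := fun w hw w2 => by
    obtain ⟨g, rfl⟩ := isConj_iff.1 (SE.isConj (ti.se hna S) (orderOf_two_iff.2 ⟨e2, e1⟩) w2)
    exact ((Invol.mem_zpowers_invol e2).1 (l2 (conj_mem_of_norm (normsR le_rfl le_rfl
      (ti.mem_norm S e1 (ht.mem_Q0.1 e0).1 hw)) (commutator_mem_commutator hc hd)))).resolve_left (ne_one_of w2)
  obtain ⟨u, hu, v, hv, u2, v2, uv, -⟩ := rank2_of_simple hna S (A := S) fun x hx _ => hx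
  exact uv ((k2 u hu u2).trans (k2 v hv v2).symm)

end Cfsg.Agent.CI
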